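/-
Generators of exterior powers of Kähler differentials, first consequences of the de Rham rule.
-/
import Groth.Prelude.Def_DeRham
import Mathlib.Tactic

open exteriorPower

namespace Groth.DR

universe v u v' u'

variable {R : Type v} {A M : Type u} [CommRing R] [CommRing A] [Algebra R A]
  [AddCommGroup M] [Module A M] [Module R M]

/-- Additive induction along `gen`, for receptacles generated by the image of `δ`. -/
theorem gen_induction (δ : Derivation R A M) (hgen : Submodule.span A (Set.range δ) = ⊤)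
    {p : ℕ} {P : ↥(⋀[A]^p M) → Prop} (h0 : P 0) (hadd : ∀ x y, P x → P y → P (x + y))
    (hg : ∀ b₀ b, P (DeRham.gen δ p b₀ b)) (x : ↥(⋀[A]^p M)) : P x := by
  have hspan := exteriorPower.ιMulti_span_of_span A p M hgen
  have hx : x ∈ Submodule.span A (ιMulti A p '' {a | Set.range a ⊆ Set.range δ}) :=
    hspan ▸ Submodule.mem_top
  suffices ∀ c : A, P (c • x) by simpa using this 1
  induction hx using Submodule.span_induction with
  | mem y hy =>
    intro c
    obtain ⟨a, ha, rfl⟩ := hy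
    choose b hb using fun i => ha ⟨i, rfl⟩
    have := hg c b
    simp only [DeRham.gen, hb] at this
    exact this
  | zero => intro c; simpa using h0
  | add y z _ _ hy hz => intro c; rw [smul_add]; exact hadd _ _ (hy c) (hz c)
  | smul r y _ hy => intro c; rw [smul_smul]; exact hy _

/-- Two additive maps agreeing on generators are equal. -/
theorem addHom_ext (δ : Derivation R A M) (hgen : Submodule.span A (Set.range δ) = ⊤)
    {N : Type*} [AddCommGroup N] {p : ℕ} {F G : ↥(⋀[A]^p M) →+ N}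
    (h : ∀ b₀ b, F (DeRham.gen δ p b₀ b) = G (DeRham.gen δ p b₀ b)) : F = G :=
  AddMonoidHom.ext fun x => gen_induction δ hgen (P := fun x => F x = G x) (by simp)
    (fun x y hx hy => by simp [hx, hy]) h x

/-- The wedge of the differentials is the generator with coefficient one. -/
theorem gen_one (δ : Derivation R A M) (p : ℕ) (b : Fin p → A) :
    DeRham.gen δ p 1 b = ιMulti A p (fun i => δ (b i)) := one_smul _ _

theorem gen_smul (δ : Derivation R A M) (p : ℕ) (a b₀ : A) (b : Fin p → A) :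
    DeRham.gen δ p (a * b₀) b = a • DeRham.gen δ p b₀ b := mul_smul _ _ _

theorem ιMulti_cons_eq_gen (δ : Derivation R A M) (p : ℕ) (b₀ : A) (b : Fin p → A) :
    ιMulti A (p + 1) (Fin.cons (δ b₀) (fun i => δ (b i))) =
      DeRham.gen δ (p + 1) 1 (Fin.cons b₀ b) := by
  rw [gen_one]
  congr 1
  funext i
  refine Fin.cases ?_ (fun j => ?_) i <;> simp

/-- `x ↦ x ∧ m₁ ∧ … ∧ m_p` as a linear map. -/
noncomputable def consLin {A M : Type*} [CommRing A] [AddCommGroup M] [Module A M] {p : ℕ}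
    (m : Fin p → M) : M →ₗ[A] ↥(⋀[A]^(p + 1) M) :=
  (ιMulti A (p + 1)).toMultilinearMap.toLinearMap (Fin.cons 0 m) 0

theorem consLin_apply {A M : Type*} [CommRing A] [AddCommGroup M] [Module A M] {p : ℕ}
    (m : Fin p → M) (x : M) : consLin (A := A) m x = ιMulti A (p + 1) (Fin.cons x m) := by
  simp [consLin, MultilinearMap.toLinearMap_apply, Fin.update_cons_zero]

variable [IsScalarTower R A M]

theorem d_gen_one {δ : Derivation R A M}
    {d : ∀ p : ℕ, ↥(⋀[A]^p M) →ₗ[R] ↥(⋀[A]^(p + 1) M)} (hd : DeRham.IsRule δ d)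
    (p : ℕ) (b : Fin p → A) : d p (DeRham.gen δ p 1 b) = 0 := by
  rw [hd]
  refine AlternatingMap.map_coord_zero _ 0 ?_
  simp

theorem d_comp_d {δ : Derivation R A M} (hgen : Submodule.span A (Set.range δ) = ⊤)
    {d : ∀ p : ℕ, ↥(⋀[A]^p M) →ₗ[R] ↥(⋀[A]^(p + 1) M)} (hd : DeRham.IsRule δ d)
    (p : ℕ) : d (p + 1) ∘ₗ d p = 0 := by
  refine LinearMap.ext fun x => ?_
  refine gen_induction δ hgen (P := fun x => d (p + 1) (d p x) = 0) (by simp)
    (fun x y hx hy => by simp [hx, hy]) (fun b₀ b => ?_) x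
  rw [hd, ιMulti_cons_eq_gen, d_gen_one hd]

theorem kaehler_span (R A : Type*) [CommRing R] [CommRing A] [Algebra R A] :
    Submodule.span A (Set.range (KaehlerDifferential.D R A)) = ⊤ :=
  KaehlerDifferential.span_range_derivation R A

/-- Compatibility of induced maps with the differentials. -/
theorem comm_d {R' : Type v'} {A' M' : Type u'} [CommRing R'] [CommRing A'] [Algebra R' A']
    [AddCommGroup M'] [Module A' M'] [Module R' M'] [IsScalarTower R' A' M']
    {δ : Derivation R A M} (hgen : Submodule.span A (Set.range δ) = ⊤)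
    {δ' : Derivation R' A' M'} {g : A →+* A'}
    {d : ∀ p : ℕ, ↥(⋀[A]^p M) →ₗ[R] ↥(⋀[A]^(p + 1) M)} (hd : DeRham.IsRule δ d)
    {d' : ∀ p : ℕ, ↥(⋀[A']^p M') →ₗ[R'] ↥(⋀[A']^(p + 1) M')} (hd' : DeRham.IsRule δ' d')
    {ψ : ∀ p : ℕ, ↥(⋀[A]^p M) →+ ↥(⋀[A']^p M')} (hψ : DeRham.IsCxMap δ δ' g ψ)
    (p : ℕ) (x : ↥(⋀[A]^p M)) : ψ (p + 1) (d p x) = d' p (ψ p x) := by
  refine gen_induction δ hgen (P := fun x => ψ (p + 1) (d p x) = d' p (ψ p x)) (by simp)
    (fun x y hx hy => by simp [hx, hy]) (fun b₀ b => ?_) x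
  rw [hd, ιMulti_cons_eq_gen, hψ, hψ, hd', ιMulti_cons_eq_gen, map_one]
  congr 1
  funext i
  refine Fin.cases ?_ (fun j => ?_) i <;> simp

end Groth.DR
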