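/-
Computing in the exterior algebra: coercions of generators, of maps, and left wedging.
-/
import Groth.Agent.DR.Basic
import Mathlib.LinearAlgebra.ExteriorAlgebra.Basic

open exteriorPower

namespace Groth.DR

universe u

variable {A M N : Type u} [CommRing A] [AddCommGroup M] [Module A M] [AddCommGroup N] [Module A N]

theorem coe_map (f : M →ₗ[A] N) (p : ℕ) (x : ↥(⋀[A]^p M)) :
    ((exteriorPower.map p f x : ↥(⋀[A]^p N)) : ExteriorAlgebra A N) =
      ExteriorAlgebra.map f (x : ExteriorAlgebra A M) := by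
  have : (⋀[A]^p N).subtype ∘ₗ exteriorPower.map p f =
      (ExteriorAlgebra.map f).toLinearMap ∘ₗ (⋀[A]^p M).subtype :=
    exteriorPower.linearMap_ext (by ext v; simp [ExteriorAlgebra.map_apply_ιMulti])
  exact LinearMap.congr_fun this x

theorem coe_ιMulti_cons {p : ℕ} (u : M) (v : Fin p → M) :
    (ιMulti A (p + 1) (Fin.cons u v) : ExteriorAlgebra A M) =
      ExteriorAlgebra.ι A u * (ιMulti A p v : ExteriorAlgebra A M) := by
  rw [ιMulti_apply_coe, ExteriorAlgebra.ιMulti_succ_apply]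
  rfl

/-- Left wedge by a vector, `⋀^p M → ⋀^(p+1) M`. -/
noncomputable def wedgeL (u : M) (p : ℕ) : ↥(⋀[A]^p M) →ₗ[A] ↥(⋀[A]^(p + 1) M) :=
  alternatingMapLinearEquiv ((ιMulti A (p + 1)).curryLeft u)

theorem wedgeL_ιMulti (u : M) {p : ℕ} (v : Fin p → M) :
    wedgeL u p (ιMulti A p v) = ιMulti A (p + 1) (Fin.cons u v) := by
  simp only [wedgeL, alternatingMapLinearEquiv_apply_ιMulti]; rfl

theorem coe_wedgeL (u : M) (p : ℕ) (x : ↥(⋀[A]^p M)) :
    (wedgeL u p x : ExteriorAlgebra A M) = ExteriorAlgebra.ι A u * (x : ExteriorAlgebra A M) := by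
  have : (⋀[A]^(p + 1) M).subtype ∘ₗ wedgeL u p =
      LinearMap.mulLeft A (ExteriorAlgebra.ι A u) ∘ₗ (⋀[A]^p M).subtype :=
    exteriorPower.linearMap_ext (by
      ext v; simp [wedgeL_ιMulti, ← ιMulti_apply_coe, coe_ιMulti_cons, -ιMulti_apply_coe])
  exact LinearMap.congr_fun this x

variable {R : Type*} [CommRing R] [Algebra R A] [Module R M]

theorem coe_gen_cons (δ : Derivation R A M) (p : ℕ) (b₀ e : A) (b : Fin p → A) :
    (DeRham.gen δ (p + 1) b₀ (Fin.cons e b) : ExteriorAlgebra A M) =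
      b₀ • (ExteriorAlgebra.ι A (δ e) * (DeRham.gen δ p 1 b : ExteriorAlgebra A M)) := by
  rw [DeRham.gen, Submodule.coe_smul]
  congr 1
  rw [DeRham.gen, one_smul, ← coe_ιMulti_cons]
  congr 2
  funext i
  refine Fin.cases ?_ (fun j => ?_) i <;> simp

variable [IsScalarTower R A M]

theorem coe_d_gen {δ : Derivation R A M}
    {d : ∀ p : ℕ, ↥(⋀[A]^p M) →ₗ[R] ↥(⋀[A]^(p + 1) M)} (hd : DeRham.IsRule δ d)
    (p : ℕ) (b₀ : A) (b : Fin p → A) :
    (d p (DeRham.gen δ p b₀ b) : ExteriorAlgebra A M) =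
      ExteriorAlgebra.ι A (δ b₀) * (DeRham.gen δ p 1 b : ExteriorAlgebra A M) := by
  rw [hd, coe_ιMulti_cons, DeRham.gen, one_smul]

end Groth.DR
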