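/-
Contraction of forms with a linear functional and the Lie derivative `d ι + ι d`.
-/
import Groth.Agent.DR.Wedge
import Mathlib.LinearAlgebra.CliffordAlgebra.Contraction

open exteriorPower

namespace Groth.DR

universe v u

variable {R : Type v} {A M : Type u} [CommRing R] [CommRing A] [Algebra R A]
  [AddCommGroup M] [Module A M]

theorem contractLeft_mem (θ : M →ₗ[A] A) (p : ℕ) :
    ∀ x : ExteriorAlgebra A M, x ∈ ⋀[A]^(p + 1) M →
      CliffordAlgebra.contractLeft (Q := (0 : QuadraticForm A M)) θ x ∈ ⋀[A]^p M := by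
  induction p with
  | zero =>
    intro x hx
    rw [← exteriorPower.ιMulti_span_fixedDegree] at hx ⊢
    induction hx using Submodule.span_induction with
    | mem y hy =>
      obtain ⟨v, rfl⟩ := hy
      rw [ExteriorAlgebra.ιMulti_succ_apply, ExteriorAlgebra.ιMulti_zero_apply, mul_one]
      erw [CliffordAlgebra.contractLeft_ι]
      rw [Algebra.algebraMap_eq_smul_one]
      exact Submodule.smul_mem _ _
        (Submodule.subset_span ⟨Fin.elim0, ExteriorAlgebra.ιMulti_zero_apply _⟩)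
    | zero => rw [map_zero]; exact zero_mem _
    | add y z _ _ hy hz => rw [map_add]; exact add_mem hy hz
    | smul r y _ hy => rw [map_smul]; exact Submodule.smul_mem _ _ hy
  | succ p ih =>
    intro x hx
    rw [← exteriorPower.ιMulti_span_fixedDegree] at hx
    induction hx using Submodule.span_induction with
    | mem y hy =>
      obtain ⟨v, rfl⟩ := hy
      rw [ExteriorAlgebra.ιMulti_succ_apply]
      erw [CliffordAlgebra.contractLeft_ι_mul]
      refine sub_mem (Submodule.smul_mem _ _ (ExteriorAlgebra.ιMulti_range A _ ⟨_, rfl⟩)) ?_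
      have := ih _ (ExteriorAlgebra.ιMulti_range A _ ⟨Matrix.vecTail v, rfl⟩)
      have h2 := coe_wedgeL (v 0) p ⟨_, this⟩
      exact h2 ▸ Submodule.coe_mem _
    | zero => rw [map_zero]; exact zero_mem _
    | add y z _ _ hy hz => rw [map_add]; exact add_mem hy hz
    | smul r y _ hy => rw [map_smul]; exact Submodule.smul_mem _ _ hy

/-- Contraction of a `(p+1)`-form with a linear functional. -/
noncomputable def contr (θ : M →ₗ[A] A) (p : ℕ) : ↥(⋀[A]^(p + 1) M) →ₗ[A] ↥(⋀[A]^p M) :=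
  ((CliffordAlgebra.contractLeft (Q := (0 : QuadraticForm A M)) θ) ∘ₗ
      (⋀[A]^(p + 1) M).subtype).codRestrict _ fun x => contractLeft_mem θ p _ x.2

theorem contr_ιMulti_one (θ : M →ₗ[A] A) (v : Fin 1 → M) :
    contr θ 0 (ιMulti A 1 v) = θ (v 0) • ιMulti A 0 Fin.elim0 := by
  apply Subtype.ext
  show CliffordAlgebra.contractLeft (Q := (0 : QuadraticForm A M)) θ _ = _
  rw [Submodule.coe_subtype, ιMulti_apply_coe, ExteriorAlgebra.ιMulti_succ_apply,
    ExteriorAlgebra.ιMulti_zero_apply, mul_one]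
  erw [CliffordAlgebra.contractLeft_ι]
  rw [Algebra.algebraMap_eq_smul_one, Submodule.coe_smul, ιMulti_apply_coe,
    ExteriorAlgebra.ιMulti_zero_apply]

theorem contr_wedgeL (θ : M →ₗ[A] A) (u : M) (p : ℕ) (x : ↥(⋀[A]^(p + 1) M)) :
    contr θ (p + 1) (wedgeL u (p + 1) x) = θ u • x - wedgeL u p (contr θ p x) := by
  apply Subtype.ext
  show CliffordAlgebra.contractLeft (Q := (0 : QuadraticForm A M)) θ _ = _
  rw [Submodule.coe_subtype, coe_wedgeL]
  erw [CliffordAlgebra.contractLeft_ι_mul]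
  rw [Submodule.coe_sub, Submodule.coe_smul, coe_wedgeL]
  rfl

variable [Module R M]

theorem gen_succ (δ : Derivation R A M) (p : ℕ) (b₀ : A) (b : Fin (p + 1) → A) :
    DeRham.gen δ (p + 1) b₀ b =
      b₀ • wedgeL (δ (b 0)) p (DeRham.gen δ p 1 (Fin.tail b)) := by
  rw [DeRham.gen, gen_one, wedgeL_ιMulti]
  congr 2
  exact (Fin.cons_self_tail (fun i => δ (b i))).symm

theorem d_gen_eq [IsScalarTower R A M] {δ : Derivation R A M}
    {d : ∀ p : ℕ, ↥(⋀[A]^p M) →ₗ[R] ↥(⋀[A]^(p + 1) M)} (hd : DeRham.IsRule δ d)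
    (p : ℕ) (b₀ : A) (b : Fin p → A) :
    d p (DeRham.gen δ p b₀ b) = wedgeL (δ b₀) p (DeRham.gen δ p 1 b) := by
  rw [hd, gen_one, wedgeL_ιMulti]

theorem wedgeL_add (u w : M) (p : ℕ) (x : ↥(⋀[A]^p M)) :
    wedgeL (u + w) p x = wedgeL u p x + wedgeL w p x := by
  apply Subtype.ext; simp [coe_wedgeL, add_mul]

theorem wedgeL_smul (a : A) (u : M) (p : ℕ) (x : ↥(⋀[A]^p M)) :
    wedgeL (a • u) p x = a • wedgeL u p x := by
  apply Subtype.ext; simp [coe_wedgeL]

theorem wedgeL_zero (p : ℕ) (x : ↥(⋀[A]^p M)) : wedgeL (0 : M) p x = 0 := by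
  apply Subtype.ext; simp [coe_wedgeL]

theorem wedgeL_wedgeL (u w : M) (p : ℕ) (x : ↥(⋀[A]^p M)) :
    wedgeL u (p + 1) (wedgeL w p x) = -wedgeL w (p + 1) (wedgeL u p x) := by
  apply Subtype.ext
  rw [Submodule.coe_neg, coe_wedgeL, coe_wedgeL, coe_wedgeL, coe_wedgeL, ← mul_assoc, ← mul_assoc,
    eq_neg_of_add_eq_zero_left (ExteriorAlgebra.ι_add_mul_swap u w), neg_mul]

theorem wedgeL_self (u : M) (p : ℕ) (x : ↥(⋀[A]^p M)) : wedgeL u (p + 1) (wedgeL u p x) = 0 := by
  apply Subtype.ext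
  rw [coe_wedgeL, coe_wedgeL, ← mul_assoc, ExteriorAlgebra.ι_sq_zero, zero_mul]; rfl

variable [IsScalarTower R A M] {δ : Derivation R A M}
  (hgen : Submodule.span A (Set.range δ) = ⊤)
  {d : ∀ p : ℕ, ↥(⋀[A]^p M) →ₗ[R] ↥(⋀[A]^(p + 1) M)} (hd : DeRham.IsRule δ d)

include hgen hd in
theorem d_smul (p : ℕ) (a : A) (x : ↥(⋀[A]^p M)) :
    d p (a • x) = wedgeL (δ a) p x + a • d p x := by
  refine gen_induction δ hgen (P := fun x => d p (a • x) = wedgeL (δ a) p x + a • d p x)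
    (by simp) (fun x y hx hy => ?_) (fun b₀ b => ?_) x
  · rw [smul_add, map_add, hx, hy, map_add, map_add, smul_add]; abel
  · rw [← gen_smul, d_gen_eq hd, d_gen_eq hd, Derivation.leibniz, wedgeL_add, wedgeL_smul,
      wedgeL_smul, show DeRham.gen δ p b₀ b = b₀ • DeRham.gen δ p 1 b by
        rw [← gen_smul, mul_one], map_smul]
    abel

include hgen hd in
theorem d_wedgeL (p : ℕ) (e : A) (x : ↥(⋀[A]^p M)) :
    d (p + 1) (wedgeL (δ e) p x) = -wedgeL (δ e) (p + 1) (d p x) := by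
  refine gen_induction δ hgen (P := fun x => d (p + 1) (wedgeL (δ e) p x) =
    -wedgeL (δ e) (p + 1) (d p x)) (by simp) (fun x y hx hy => ?_) (fun b₀ b => ?_) x
  · simp only [map_add, hx, hy, neg_add]
  · have : wedgeL (δ e) p (DeRham.gen δ p b₀ b) = DeRham.gen δ (p + 1) b₀ (Fin.cons e b) := by
      rw [gen_succ, Fin.cons_zero, Fin.tail_cons, ← map_smul, ← gen_smul, mul_one]
    rw [this, d_gen_eq hd, d_gen_eq hd, wedgeL_wedgeL, gen_succ, Fin.cons_zero, Fin.tail_cons,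
      one_smul, wedgeL_wedgeL, neg_neg]

/-- The Lie derivative on positive degree forms. -/
noncomputable def lie (d : ∀ p : ℕ, ↥(⋀[A]^p M) →ₗ[R] ↥(⋀[A]^(p + 1) M)) (θ : M →ₗ[A] A) (p : ℕ) :
    ↥(⋀[A]^(p + 1) M) →ₗ[R] ↥(⋀[A]^(p + 1) M) :=
  d p ∘ₗ (contr θ p).restrictScalars R + (contr θ (p + 1)).restrictScalars R ∘ₗ d (p + 1)

theorem lie_apply (d : ∀ p : ℕ, ↥(⋀[A]^p M) →ₗ[R] ↥(⋀[A]^(p + 1) M)) (θ : M →ₗ[A] A) (p : ℕ)
    (x : ↥(⋀[A]^(p + 1) M)) :
    lie d θ p x = d p (contr θ p x) + contr θ (p + 1) (d (p + 1) x) := rfl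

include hgen hd in
theorem lie_comm (θ : M →ₗ[A] A) (p : ℕ) (x : ↥(⋀[A]^(p + 1) M)) :
    d (p + 1) (lie d θ p x) = lie d θ (p + 1) (d (p + 1) x) := by
  have h : ∀ q y, d (q + 1) (d q y) = 0 := fun q y => LinearMap.congr_fun (d_comp_d hgen hd q) y
  rw [lie_apply, lie_apply, map_add, h, h, map_zero, zero_add, add_zero]

include hgen hd in
theorem d_contr_gen (θ : M →ₗ[A] A) {p : ℕ} (b : Fin (p + 1) → A) (w : Fin (p + 1) → R)
    (hw : ∀ i, θ (δ (b i)) = algebraMap R A (w i) * b i) :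
    d p (contr θ p (DeRham.gen δ (p + 1) 1 b)) =
      algebraMap R A (∑ i, w i) • DeRham.gen δ (p + 1) 1 b := by
  induction p with
  | zero =>
    rw [gen_one, contr_ιMulti_one, hw]
    rw [show ((algebraMap R A (w 0) * b 0) • ιMulti A 0 Fin.elim0 : ↥(⋀[A]^0 M)) =
      algebraMap R A (w 0) • DeRham.gen δ 0 (b 0) Fin.elim0 by
        rw [DeRham.gen, smul_smul]; congr 2; exact funext fun i => i.elim0]
    rw [algebraMap_smul, map_smul, d_gen_eq hd, algebraMap_smul, Fin.sum_univ_one, gen_one,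
      wedgeL_ιMulti]
    congr 2
    funext i
    refine Fin.cases ?_ (fun j => j.elim0) i
    simp
  | succ p ih =>
    have ih' := ih (Fin.tail b) (Fin.tail w) fun i => hw i.succ
    rw [gen_succ, one_smul, contr_wedgeL, map_sub, d_smul hgen hd, d_gen_one hd, smul_zero, add_zero,
      d_wedgeL hgen hd, ih', sub_neg_eq_add, hw, map_smul, ← Algebra.smul_def, Derivation.map_smul,
      ← algebraMap_smul A (w 0) (δ (b 0)), wedgeL_smul, ← add_smul, ← map_add, Fin.sum_univ_succ w]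
    rfl

include hgen hd in
/-- The Lie derivative on a generator with eigen-coordinates. -/
theorem lie_gen (θ : M →ₗ[A] A) {p : ℕ} (a : A) (b : Fin (p + 1) → A) (w : Fin (p + 1) → R)
    (hw : ∀ i, θ (δ (b i)) = algebraMap R A (w i) * b i) :
    lie d θ p (DeRham.gen δ (p + 1) a b) =
      DeRham.gen δ (p + 1) (θ (δ a) + algebraMap R A (∑ i, w i) * a) b := by
  have e : ∀ c, DeRham.gen δ (p + 1) c b = c • DeRham.gen δ (p + 1) 1 b := fun c => by
    rw [← gen_smul, mul_one]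
  rw [lie_apply, d_gen_eq hd, contr_wedgeL, show DeRham.gen δ (p + 1) a b = _ from e a,
    map_smul, d_smul hgen hd, d_contr_gen hgen hd θ b w hw, e (_ + _), add_smul, smul_smul,
    mul_comm a]
  abel

include hd in
/-- Degree zero: `ι d` is the derivation. -/
theorem contr_d_zero (θ : M →ₗ[A] A) (a : A) (b : Fin 0 → A) :
    contr θ 0 (d 0 (DeRham.gen δ 0 a b)) = DeRham.gen δ 0 (θ (δ a)) b := by
  rw [hd, contr_ιMulti_one, DeRham.gen]
  congr 2
  exact funext fun i => i.elim0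

end Groth.DR
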