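/-
The map of de Rham complexes induced by a square of algebras.
-/
import Groth.Agent.DR.Basic
import Mathlib.RingTheory.Kaehler.Basic

open exteriorPower

namespace Groth.DR

variable (R S A B : Type*) [CommRing R] [CommRing S] [CommRing A] [CommRing B]
  [Algebra R S] [Algebra R A] [Algebra R B] [Algebra A B] [Algebra S B]
  [IsScalarTower R A B] [IsScalarTower R S B]

/-- The alternating map `ω₁, …, ω_p ↦ g ω₁ ∧ … ∧ g ω_p` over `A`. -/
noncomputable def mapAlt [SMulCommClass S A B] (p : ℕ) :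
    (Ω[A⁄R]) [⋀^Fin p]→ₗ[A] ↥(⋀[B]^p (Ω[B⁄S])) where
  __ := ((ιMulti B p).toMultilinearMap.restrictScalars A).compLinearMap
    fun _ => KaehlerDifferential.map R S A B
  map_eq_zero_of_eq' v i j h hij :=
    (ιMulti B p).map_eq_zero_of_eq (fun k => KaehlerDifferential.map R S A B (v k))
      (by simp [h]) hij

theorem exists_isCxMap [SMulCommClass S A B] :
    ∃ ψ : ∀ p : ℕ, ↥(⋀[A]^p (Ω[A⁄R])) →+ ↥(⋀[B]^p (Ω[B⁄S])),
      DeRham.IsCxMap (KaehlerDifferential.D R A) (KaehlerDifferential.D S B) (algebraMap A B) ψ := by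
  refine ⟨fun p => (alternatingMapLinearEquiv (mapAlt R S A B p)).toAddMonoidHom, fun p b₀ b => ?_⟩
  show alternatingMapLinearEquiv (mapAlt R S A B p) (_ • _) = _
  rw [map_smul, alternatingMapLinearEquiv_apply_ιMulti]
  show b₀ • ιMulti B p (fun i => KaehlerDifferential.map R S A B _) = _
  simp only [KaehlerDifferential.map_D]
  rw [DeRham.gen, algebraMap_smul]

end Groth.DR
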