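/-
Elementary properties of maps of de Rham complexes.
-/
import Groth.Agent.DR.Contract
import Groth.Agent.DR.Map

open exteriorPower

namespace Groth.DR

universe v u v' u'

variable {R : Type v} {A M : Type u} {R' : Type v'} {A' M' : Type u'} [CommRing R] [CommRing A]
  [Algebra R A] [AddCommGroup M] [Module A M] [Module R M] [CommRing R'] [CommRing A']
  [Algebra R' A'] [AddCommGroup M'] [Module A' M'] [Module R' M']
  {δ : Derivation R A M} (hgen : Submodule.span A (Set.range δ) = ⊤)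
  {δ' : Derivation R' A' M'} {g : A →+* A'}
  {ψ : ∀ p : ℕ, ↥(⋀[A]^p M) →+ ↥(⋀[A']^p M')} (hψ : DeRham.IsCxMap δ δ' g ψ)

include hgen hψ in
theorem cxMap_smul (p : ℕ) (a : A) (x : ↥(⋀[A]^p M)) : ψ p (a • x) = g a • ψ p x := by
  refine gen_induction δ hgen (P := fun x => ψ p (a • x) = g a • ψ p x) (by simp)
    (fun x y hx hy => by rw [smul_add, map_add, hx, hy, map_add, smul_add]) (fun b₀ b => ?_) x
  rw [← gen_smul, hψ, hψ, map_mul, gen_smul]

include hgen hψ in
theorem cxMap_wedgeL (p : ℕ) (e : A) (x : ↥(⋀[A]^p M)) :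
    ψ (p + 1) (wedgeL (δ e) p x) = wedgeL (δ' (g e)) p (ψ p x) := by
  refine gen_induction δ hgen
    (P := fun x => ψ (p + 1) (wedgeL (δ e) p x) = wedgeL (δ' (g e)) p (ψ p x)) (by simp)
    (fun x y hx hy => by simp only [map_add, hx, hy]) (fun b₀ b => ?_) x
  have h1 : wedgeL (δ e) p (DeRham.gen δ p b₀ b) = DeRham.gen δ (p + 1) b₀ (Fin.cons e b) := by
    rw [gen_succ, Fin.cons_zero, Fin.tail_cons, ← map_smul, ← gen_smul, mul_one]
  have h2 : wedgeL (δ' (g e)) p (DeRham.gen δ' p (g b₀) (g ∘ b)) =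
      DeRham.gen δ' (p + 1) (g b₀) (Fin.cons (g e) (g ∘ b)) := by
    rw [gen_succ, Fin.cons_zero, Fin.tail_cons, ← map_smul, ← gen_smul, mul_one]
  rw [h1, hψ, hψ, ← Function.comp_def g b, h2]
  congr 1
  funext i
  refine Fin.cases ?_ (fun j => ?_) i <;> simp

/-- The map induced by an algebra map. -/
theorem exists_isCxMap_algHom {R A B : Type*} [CommRing R] [CommRing A] [CommRing B] [Algebra R A]
    [Algebra R B] (f : A →ₐ[R] B) :
    ∃ ρ : ∀ p : ℕ, ↥(⋀[A]^p (Ω[A⁄R])) →+ ↥(⋀[B]^p (Ω[B⁄R])),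
      DeRham.IsCxMap (KaehlerDifferential.D R A) (KaehlerDifferential.D R B) f.toRingHom ρ := by
  letI : Algebra A B := f.toRingHom.toAlgebra
  haveI : IsScalarTower R A B := IsScalarTower.of_algebraMap_eq fun r => (f.commutes r).symm
  haveI : SMulCommClass R A B := ⟨fun r a b => by simp [Algebra.smul_def, mul_left_comm]⟩
  exact exists_isCxMap R R A B

end Groth.DR
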