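import Mathlib

/-!
Euler derivations on the coordinate ring `k[X, Y] / (XY)` of the node and the kernel of `d`.
-/

set_option autoImplicit false

universe u

namespace Groth.DR.Node

open MvPolynomial

variable (k : Type u) [Field k]

/-- The ideal `(XY)`. -/
noncomputable abbrev I : Ideal (MvPolynomial (Fin 2) k) :=
  Ideal.span {(X 0 * X 1 : MvPolynomial (Fin 2) k)}

/-- The node `k[X,Y]/(XY)`. -/
abbrev A : Type u := MvPolynomial (Fin 2) k ⧸ I k

theorem mem_I_iff (f : MvPolynomial (Fin 2) k) :
    f ∈ I k ↔ ∀ m ∈ f.support, m 0 ≠ 0 ∧ m 1 ≠ 0 := by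
  have h : I k = Ideal.span ((fun s => monomial s (1 : k)) ''
      ({Finsupp.single 0 1 + Finsupp.single 1 1} : Set (Fin 2 →₀ ℕ))) := by
    rw [Set.image_singleton]
    simp only [I, X, monomial_mul, mul_one]
  rw [h, mem_ideal_span_monomial_image]
  refine forall₂_congr fun m _ => ?_
  simp only [Set.mem_singleton_iff, exists_eq_left]
  refine ⟨fun h => ⟨?_, ?_⟩, fun h j => ?_⟩
  · have := h 0; simp at this; omega
  · have := h 1; simp at this; omega
  · fin_cases j <;> simp <;> omega

/-- The Euler derivation in the variable `i`. -/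
noncomputable def eulerP (i : Fin 2) :
    Derivation k (MvPolynomial (Fin 2) k) (MvPolynomial (Fin 2) k) :=
  (X i : MvPolynomial (Fin 2) k) • pderiv i

theorem coeff_eulerP (i : Fin 2) (f : MvPolynomial (Fin 2) k) (m : Fin 2 →₀ ℕ) :
    coeff m (eulerP k i f) = (m i : k) * coeff m f := by
  classical
  induction f using MvPolynomial.induction_on' with
  | monomial n a =>
    change coeff m (X i * pderiv i (monomial n a)) = _
    rw [X_mul_pderiv_monomial, coeff_smul, coeff_monomial]
    split_ifs with h <;> simp [h]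
  | add p q hp hq => simp [hp, hq, mul_add]

theorem eulerP_mem (i : Fin 2) {f : MvPolynomial (Fin 2) k} (hf : f ∈ I k) :
    eulerP k i f ∈ I k := by
  rw [mem_I_iff] at hf ⊢
  intro m hm
  refine hf m ?_
  rw [mem_support_iff] at hm ⊢
  intro h
  exact hm (by rw [coeff_eulerP, h, mul_zero])

/-- The Euler derivations of the node. -/
noncomputable def euler (i : Fin 2) : Derivation k (A k) (A k) :=
  Derivation.liftOfSurjective (f := Ideal.Quotient.mkₐ k (I k))
    (Ideal.Quotient.mkₐ_surjective k (I k)) (d := eulerP k i) fun x hx => by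
      rw [Ideal.Quotient.mkₐ_eq_mk, Ideal.Quotient.eq_zero_iff_mem] at hx ⊢
      exact eulerP_mem k i hx

theorem euler_mk (i : Fin 2) (f : MvPolynomial (Fin 2) k) :
    euler k i (Ideal.Quotient.mk (I k) f) = Ideal.Quotient.mk (I k) (eulerP k i f) :=
  Derivation.liftOfSurjective_apply (f := Ideal.Quotient.mkₐ k (I k))
    (Ideal.Quotient.mkₐ_surjective k (I k)) (fun x hx => by
      rw [Ideal.Quotient.mkₐ_eq_mk, Ideal.Quotient.eq_zero_iff_mem] at hx ⊢
      exact eulerP_mem k i hx) f

/-- Elements killed by both Euler derivations are constants (characteristic zero). -/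
theorem mem_range_of_euler_eq_zero [CharZero k] {P : A k} (h : ∀ i, euler k i P = 0) :
    P ∈ Set.range (algebraMap k (A k)) := by
  obtain ⟨f, rfl⟩ := Ideal.Quotient.mk_surjective P
  refine ⟨coeff 0 f, ?_⟩
  rw [← Ideal.Quotient.mk_algebraMap, eq_comm, Ideal.Quotient.eq, mem_I_iff]
  intro m hm
  rw [mem_support_iff, coeff_sub, MvPolynomial.algebraMap_eq, coeff_C] at hm
  by_contra hcon
  have hm0 : m ≠ 0 := by
    rintro rfl
    simp at hm
  rw [if_neg hm0.symm, sub_zero] at hm
  obtain ⟨i, hi⟩ : ∃ i, m i ≠ 0 := by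
    by_contra h0
    exact hm0 (Finsupp.ext fun i => not_not.1 fun hi => h0 ⟨i, hi⟩)
  have h' := h i
  rw [euler_mk, Ideal.Quotient.eq_zero_iff_mem, mem_I_iff] at h'
  refine hcon (h' m ?_)
  rw [mem_support_iff, coeff_eulerP]
  exact mul_ne_zero (Nat.cast_ne_zero.2 hi) hm

theorem mem_range_of_d_eq_zero [CharZero k] {P : A k}
    (h : KaehlerDifferential.D k (A k) P = 0) : P ∈ Set.range (algebraMap k (A k)) :=
  mem_range_of_euler_eq_zero k fun i => by
    rw [← Derivation.liftKaehlerDifferential_comp_D (euler k i), h, map_zero]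

/-- The form `X dY`, which is not exact. -/
theorem not_surjective_d [CharZero k] : ¬ Function.Surjective (KaehlerDifferential.D k (A k)) := by
  intro hs
  let x : A k := Ideal.Quotient.mk (I k) (X 0)
  let y : A k := Ideal.Quotient.mk (I k) (X 1)
  obtain ⟨P, hP⟩ := hs (x • KaehlerDifferential.D k (A k) y)
  have hc : ∀ i, euler k i P = 0 := fun i => by
    rw [← Derivation.liftKaehlerDifferential_comp_D (euler k i), hP, map_smul,
      Derivation.liftKaehlerDifferential_comp_D, euler_mk, smul_eq_mul, ← map_mul,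
      Ideal.Quotient.eq_zero_iff_mem, mem_I_iff]
    intro m hm
    fin_cases i <;>
      simp [eulerP, pderiv_X, X, monomial_mul, mem_support_iff, coeff_monomial] at hm
    subst hm
    simp
  obtain ⟨c, rfl⟩ := mem_range_of_euler_eq_zero k hc
  rw [Derivation.map_algebraMap] at hP
  -- a derivation into the dual numbers detecting `X dY`
  let φ : MvPolynomial (Fin 2) k →ₐ[k] DualNumber k := aeval fun _ => DualNumber.eps
  have hφ : ∀ f ∈ I k, φ f = 0 := fun f hf => by
    obtain ⟨g, rfl⟩ := Ideal.mem_span_singleton'.1 hf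
    simp [φ]
  letI := φ.toRingHom.toAlgebra
  letI : Algebra (A k) (DualNumber k) := (Ideal.Quotient.liftₐ (I k) φ hφ).toRingHom.toAlgebra
  haveI : IsScalarTower k (MvPolynomial (Fin 2) k) (DualNumber k) :=
    IsScalarTower.of_algebraMap_eq fun c => (φ.commutes c).symm
  haveI : IsScalarTower k (A k) (DualNumber k) :=
    IsScalarTower.of_algebraMap_eq fun c => ((Ideal.Quotient.liftₐ (I k) φ hφ).commutes c).symm
  let δ : Derivation k (MvPolynomial (Fin 2) k) (DualNumber k) :=
    mkDerivation k (fun i => if i = 0 then -1 else 1)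
  have hδ : ∀ f ∈ (I k).restrictScalars k, δ f = 0 := fun f hf => by
    obtain ⟨g, rfl⟩ := Ideal.mem_span_singleton'.1 (Submodule.restrictScalars_mem k (I k) f |>.1 hf)
    simp [δ, Algebra.smul_def, RingHom.algebraMap_toAlgebra, φ]
  let δA : Derivation k (A k) (DualNumber k) :=
    Derivation.mk' (((I k).restrictScalars k).liftQ δ.toLinearMap fun f hf => hδ f hf)
      fun a b => by
        obtain ⟨a, rfl⟩ := Ideal.Quotient.mk_surjective a
        obtain ⟨b, rfl⟩ := Ideal.Quotient.mk_surjective b
        exact δ.leibniz a b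
  have h := congrArg δA.liftKaehlerDifferential hP
  rw [map_zero, map_smul, Derivation.liftKaehlerDifferential_comp_D] at h
  have h2 : δA y = δ (X 1) := rfl
  have h3 : algebraMap (A k) (DualNumber k) x = φ (X 0) := rfl
  rw [Algebra.smul_def, h3, h2] at h
  have : (TrivSqZeroExt.snd (DualNumber.eps : DualNumber k)) = (0 : k) := by
    simpa [δ, φ] using (congrArg TrivSqZeroExt.snd h).symm
  simp at this

end Groth.DR.Node
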